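import Groth.Agent.H14QCohFP.Main
import Groth.Agent.H24FMod.Present

/-! # Quasi-coherent modules of finite type on locally Noetherian formal schemes are coherent -/

universe u

open CategoryTheory CategoryTheory.Limits AlgebraicGeometry TopologicalSpace Opposite

namespace Groth.Agent.H14QCohFP

open H24FMod H15Site.CoprodSect

variable {𝔛 : FSch.Sys.{u}} (hL : 𝔛.IsLocNoethFormal)

theorem qcObj_of_isCompact (W : (𝔛.X 0).Opens) (hW : IsCompact (W : Set (𝔛.X 0))) :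
    QcObj (Opens.grothendieckTopology (𝔛.X 0)) W := by
  intro S hS
  choose O g hg hx using fun x : {x // x ∈ W} => hS x.1 x.2
  obtain ⟨t, ht⟩ := hW.elim_finite_subcover (fun x => (O x : Set (𝔛.X 0))) (fun x => (O x).isOpen)
    fun x hx' => Set.mem_iUnion.2 ⟨⟨x, hx'⟩, hx ⟨x, hx'⟩⟩
  refine ⟨{x // x ∈ t}, inferInstance, fun k => O k.1, fun k => g k.1, fun k => hg k.1, fun y hy => ?_⟩
  obtain ⟨k, hk, hyk⟩ := Set.mem_iUnion₂.1 (ht hy)
  exact ⟨O k, g k, ⟨O k, 𝟙 _, g k, Presieve.ofArrows.mk (Y := fun k : {x // x ∈ t} => O k.1) ⟨k, hk⟩,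
    Category.id_comp _⟩, hyk⟩

/-- The affine opens form a good base of a locally Noetherian formal scheme. -/
theorem goodBase : GoodBase (𝔛.Osh hL.1) (fun W : (𝔛.X 0).Opens => IsAffineOpen W) where
  noeth W hW := by
    obtain ⟨J, hN, -, -⟩ := exists_adic hL hW
    exact hN
  qc W hW := qcObj_of_isCompact W hW.isCompact
  flat W V g hW hV := flat_rsO hL hW hV g
  cover Y := ⟨affSieve Y, affSieve_mem Y, fun W g hg => by
    obtain ⟨A, hA, h1, h2⟩ := hg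
    exact ⟨A, homOfLE h1, homOfLE h2, hA, Subsingleton.elim _ _⟩⟩

theorem isCohF_of_isQuasicoherent (𝔉 : FSch.ModF 𝔛 hL.1) [SheafOfModules.IsQuasicoherent.{u} 𝔉]
    [SheafOfModules.IsFiniteType.{u} 𝔉] : FSch.IsCohF 𝔛 hL.1 𝔉 :=
  isFinitePresentation_of_isQuasicoherent (goodBase hL) 𝔉

theorem isCohF_of_mono {𝔉 𝔊 : FSch.ModF 𝔛 hL.1} (h𝔉 : FSch.IsCohF 𝔛 hL.1 𝔉)
    [SheafOfModules.IsQuasicoherent.{u} 𝔊] (ι : 𝔊 ⟶ 𝔉) [Mono ι] : FSch.IsCohF 𝔛 hL.1 𝔊 := by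
  haveI := isFiniteType_of_mono (goodBase hL) ι fun W hW => finite_sec hL h𝔉 hW
  exact isCohF_of_isQuasicoherent hL 𝔊

theorem isCohF_of_epi {𝔉 𝔊 : FSch.ModF 𝔛 hL.1} (h𝔉 : FSch.IsCohF 𝔛 hL.1 𝔉)
    [SheafOfModules.IsQuasicoherent.{u} 𝔊] (π : 𝔉 ⟶ 𝔊) [Epi π] : FSch.IsCohF 𝔛 hL.1 𝔊 := by
  open H15Site.LocPres H15Site.LocGen H15Site.ModRel H15Site.ModTensor in
  haveI : SheafOfModules.IsFiniteType.{u} (R := ModSite.ringSh (𝔛.Osh hL.1)) 𝔊 := by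
    haveI : SheafOfModules.IsFinitePresentation (R := ModSite.ringSh (𝔛.Osh hL.1)) 𝔉 := h𝔉
    refine isFiniteType_of_lh (lh_mono (lh_fg (O := 𝔛.Osh hL.1) 𝔉) fun W hW => ?_)
    obtain ⟨I, hI, s, hs⟩ := hW
    refine ⟨I, hI, fun i => (π.val.app (op W)).hom (s i), fun V g t => ?_⟩
    obtain ⟨S, hS, hS'⟩ := (epi_iff_locSurj π).1 inferInstance V t
    refine LSpan.of_cover hS fun Z a ha => ?_
    obtain ⟨z, hz⟩ := hS' a ha
    rw [← hz]
    exact LSpan.map (hs (a ≫ g) z) π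
  exact isCohF_of_isQuasicoherent hL 𝔊

end Groth.Agent.H14QCohFP
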