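import Mathlib
import Groth.Agent.H15Site.CoprodSect
import Groth.Agent.H24FMod.Kernel

/-!
# Quasi-coherent modules of finite type over a coherent base are of finite presentation
-/

universe u

open CategoryTheory CategoryTheory.Limits Opposite TensorProduct

set_option linter.style.haveILetI false
set_option backward.isDefEq.respectTransparency false

namespace Groth.Agent.H14QCohFP

open H15Site.ModTensor H15Site.ModRel H15Site.LocGen H15Site.LocPres H15Site.LocFP
open H15Site.CoprodSect (QcObj)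

attribute [local instance 10000] H15Site.SiteInst.hasSheafifySite H15Site.SiteInst.hasWeakSheafifySite

variable {C : Type u} [SmallCategory C] {J : GrothendieckTopology C} {O : Sheaf J CommRingCat.{u}}

/-- A class of objects on which the structure sheaf is Noetherian, quasi-compact, with flat restrictions. -/
structure GoodBase (O : Sheaf J CommRingCat.{u}) (P : C → Prop) : Prop where
  noeth : ∀ W, P W → IsNoetherianRing (O.obj.obj (op W))
  qc : ∀ W, P W → QcObj J W
  flat : ∀ ⦃W V : C⦄ (g : V ⟶ W), P W → P V → (O.obj.map g.op).hom.Flat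
  cover : ∀ Y : C, ∃ S ∈ J Y, ∀ ⦃W : C⦄ (g : W ⟶ Y), S g → ∃ (A : C) (a : W ⟶ A) (b : A ⟶ Y),
    P A ∧ a ≫ b = g

variable {P : C → Prop}

theorem GoodBase.refine' (hP : GoodBase O P) {Y : C} {S : Sieve Y} (hS : S ∈ J Y) :
    ∃ T ∈ J Y, ∀ ⦃W : C⦄ (g : W ⟶ Y), T g → ∃ (A : C) (a : W ⟶ A) (b : A ⟶ Y),
      P A ∧ S b ∧ a ≫ b = g := by
  choose T hT hT' using fun W : C => hP.cover W
  refine ⟨Sieve.bind S.arrows (fun W g _ => T W), J.bind_covering hS fun W g _ => hT W, ?_⟩
  rintro V _ ⟨W, v, w, hw, hv, rfl⟩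
  obtain ⟨A, a, b, hA, hab⟩ := hT' W v hv
  exact ⟨A, a, b ≫ w, hA, S.downward_closed hw b, by rw [← hab, Category.assoc]⟩

theorem qcObj_over {U W : C} (g : W ⟶ U) (hW : QcObj J W) : QcObj (J.over U) (Over.mk g) := by
  intro S hS
  obtain ⟨κ, hκ, Y, h, hS', hcov⟩ := hW (Sieve.overEquiv _ S) ((J.mem_over_iff S).1 hS)
  refine ⟨κ, hκ, fun k => Over.mk (h k ≫ g), fun k => Over.homMk (h k), fun k =>
    (Sieve.overEquiv_iff S (h k)).1 (hS' k), (J.mem_over_iff _).2 (J.superset_covering ?_ hcov)⟩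
  rintro Z f ⟨_, a, _, ⟨k⟩, rfl⟩
  rw [Sieve.overEquiv_iff]
  exact ⟨Over.mk (h k ≫ g), Over.homMk a (by simp), _, Presieve.ofArrows.mk k, by ext; simp⟩

variable {U : C} {F : ModSite.Mod O}

theorem proj_sum {I : Type u} [DecidableEq I] {W : Over U} (A : Finset I) (c : I → O.obj.obj (op W.left))
    (i : I) : ((proj (O := O) (U := U) i).val.app (op W)).hom (∑ j ∈ A, e j (c j)) =
      if i ∈ A then c i else 0 := by
  rw [map_sum]
  simp only [proj_app_e, Finset.sum_ite_eq']

theorem exists_e_combination {I : Type u} {W : Over U} (hW : QcObj (J.over U) W)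
    (z : ((fr' O U I).val.obj (op W) : Type u)) :
    ∃ (A : Finset I) (c : I → O.obj.obj (op W.left)), z = ∑ i ∈ A, e i (c i) :=
  H15Site.CoprodSect.exists_combination (O := O.over U)
    (fun _ : I => SheafOfModules.unit (ModSite.ringSh (O.over U))) hW z

theorem rs_e {I : Type u} {W W' : Over U} (a : W' ⟶ W) (i : I) (r : O.obj.obj (op W.left)) :
    rs ((forg (O.over U)).obj (fr' O U I)) a.op (e i r) = e i (rr O a.left.op r) :=
  (rs_app ((forg (O.over U)).map
    (SheafOfModules.ιFree (R := ModSite.ringSh (O.over U)) i)) a.op r).symm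

/-- The coefficients over `W` of the relations: a finitely supported family. -/
theorem exists_coeffs {I : Type u} {W : Over U} (hW : QcObj (J.over U) W)
    (z : ((fr' O U I).val.obj (op W) : Type u)) :
    ∃ r : I →₀ O.obj.obj (op W.left), z = ∑ i ∈ r.support, e i (r i) := by
  classical
  obtain ⟨A, c, rfl⟩ := exists_e_combination hW z
  refine ⟨Finsupp.onFinset A (fun i => if i ∈ A then c i else 0) (fun i hi => by_contra fun h => hi (if_neg h)), ?_⟩
  have h0 : ∀ i : I, e (O := O) (W := W) i (0 : O.obj.obj (op W.left)) = 0 := fun i =>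
    map_zero ((SheafOfModules.ιFree (R := ModSite.ringSh (O.over U)) i).val.app (op W)).hom
  rw [Finset.sum_subset Finsupp.support_onFinset_subset fun i _ hi => by
    rw [Finsupp.notMem_support_iff.1 hi]; exact h0 i]
  refine Finset.sum_congr rfl fun i hi => ?_
  rw [Finsupp.onFinset_apply, if_pos hi]

/-- The relation module of a presentation on a good object is finitely generated and complete. -/
theorem exists_rel_good (hP : GoodBase O P) {I K : Type u} (s : I → ((forg O).obj F).obj (op U))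
    (κ : fr' O U K ⟶ kernel (genMor s)) [Epi κ] {W : C} (g : W ⟶ U) (hW : P W)
    (A₀ : Finset I) :
    ∃ (L : Type u) (_ : Fintype L) (r' : L → {i // i ∈ A₀} → O.obj.obj (op W)),
      Rel (fun i : {i // i ∈ A₀} => rs ((forg O).obj F) g.op (s i)) r' := by
  classical
  let WU : Over U := Over.mk g
  let ψ : fr' O U K ⟶ fr' O U I := κ ≫ kernel.ι (genMor s)
  have hψ : ψ ≫ genMor s = 0 := by
    show (κ ≫ kernel.ι (genMor s)) ≫ genMor s = 0
    rw [Category.assoc, kernel.condition, comp_zero]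
  have hr_ex : ∀ k, ∃ r : I →₀ O.obj.obj (op W),
      (ψ.val.app (op WU)).hom (e k 1) = ∑ i ∈ r.support, e (W := WU) i (r i) := fun k =>
    exists_coeffs (qcObj_over g (hP.qc W hW)) ((ψ.val.app (op WU)).hom (e k 1))
  choose r hr using hr_ex
  let R := O.obj.obj (op W)
  haveI : IsNoetherianRing R := hP.noeth W hW
  let σ : I → ((forg O).obj F).obj (op W) := fun i => rs ((forg O).obj F) g.op (s i)
  have hr0 : ∀ k, Finsupp.linearCombination R σ (r k) = 0 := fun k => by
    have h : ((genMor s).val.app (op WU)).hom ((ψ.val.app (op WU)).hom (e k 1)) = 0 :=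
      congrArg (fun θ : fr' O U K ⟶ (ModSite.restr O U).obj F => (θ.val.app (op WU)).hom (e k 1)) hψ
    rw [hr k, map_sum] at h
    simp only [genMor_e] at h
    rw [Finsupp.linearCombination_apply, Finsupp.sum]
    exact h
  let L₀ : ({i // i ∈ A₀} → R) →ₗ[R] (I →₀ R) :=
    Fintype.linearCombination R fun i : {i // i ∈ A₀} => Finsupp.single i.1 (1 : R)
  let N : Submodule R ({i // i ∈ A₀} → R) := (Submodule.span R (Set.range r)).comap L₀
  obtain ⟨n, q, hq⟩ := Submodule.fg_iff_exists_fin_generating_family.1 (IsNoetherian.noetherian N)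
  refine ⟨ULift.{u} (Fin n), inferInstance, fun l => q l.down, ⟨fun l => ?_, fun V a c hc => ?_⟩⟩
  · have hl : L₀ (q l.down) ∈ Submodule.span R (Set.range r) :=
      (hq ▸ Submodule.subset_span ⟨l.down, rfl⟩ : q l.down ∈ N)
    have hker : Submodule.span R (Set.range r) ≤ LinearMap.ker (Finsupp.linearCombination R σ) :=
      Submodule.span_le.2 (by rintro _ ⟨k, rfl⟩; exact hr0 k)
    have := LinearMap.mem_ker.1 (hker hl)
    rw [Fintype.linearCombination_apply, map_sum] at this
    refine Eq.trans (Finset.sum_congr rfl fun i _ => ?_) this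
    rw [map_smul, Finsupp.linearCombination_single, one_smul]
  · let VU : Over U := Over.mk (a ≫ g)
    let y : ((fr' O U I).val.obj (op VU) : Type u) := ∑ i : {i // i ∈ A₀}, e i.1 (c i)
    have hy : ((genMor s).val.app (op VU)).hom y = 0 := by
      simp only [y, map_sum, genMor_e]
      refine Eq.trans (Finset.sum_congr rfl fun i _ => ?_) hc
      simp only [VU, Over.mk_hom, rs_rs, op_comp]
    obtain ⟨y', hy'⟩ := exists_kernel_lift (genMor s) y hy
    obtain ⟨S, hS, hS'⟩ := (epi_iff_locSurj κ).1 inferInstance VU y'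
    obtain ⟨T, hT, hT'⟩ := hP.refine' ((J.mem_over_iff S).1 hS)
    refine ⟨T, hT, fun Z h hh => ?_⟩
    obtain ⟨A, a', b, hA, hb, rfl⟩ := hT' h hh
    let AU : Over U := Over.mk (b ≫ a ≫ g)
    let bU : AU ⟶ VU := Over.homMk b
    obtain ⟨z, hz⟩ := hS' bU ((Sieve.overEquiv_iff S b).1 hb)
    obtain ⟨B, d, rfl⟩ := exists_e_combination (qcObj_over _ (hP.qc A hA)) z
    have hψz : (ψ.val.app (op AU)).hom (∑ k ∈ B, e k (d k)) =
        rs ((forg (O.over U)).obj (fr' O U I)) bU.op y := by
      refine (congrArg ((kernel.ι (genMor s)).val.app (op AU)).hom hz).trans ?_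
      exact (rs_app ((forg (O.over U)).map (kernel.ι (genMor s))) bU.op y').trans (congrArg _ hy')
    let w : AU ⟶ WU := Over.homMk (b ≫ a) (Category.assoc b a g)
    let ρ : R →+* O.obj.obj (op A) := (O.obj.map (b ≫ a).op).hom
    have hrel : ∀ i : I, ∑ j : {i // i ∈ A₀}, (if j.1 = i then rr O b.op (c j) else 0) =
        ∑ k ∈ B, (show O.obj.obj (op A) from d k) * ρ (r k i) := by
      intro i
      have h2 : ∀ k, (ψ.val.app (op AU)).hom (e k (d k)) =
          d k • rs ((forg (O.over U)).obj (fr' O U I)) w.op ((ψ.val.app (op WU)).hom (e k 1)) := by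
        intro k
        have h1 : e k (d k) = d k • rs ((forg (O.over U)).obj (fr' O U K)) w.op (e k 1) := by
          rw [rs_e, smul_e]; exact congrArg (e k) ((mul_one _).symm.trans (congrArg (d k * ·) (map_one (O.obj.map w.left.op).hom).symm))
        rw [h1]
        refine ((ψ.val.app (op AU)).hom.map_smul _ _).trans ?_
        exact congrArg (d k • ·) (rs_app ((forg (O.over U)).map ψ) w.op (e k 1))
      have h := congrArg ((proj (O := O) (U := U) i).val.app (op AU)).hom hψz.symm
      rw [map_sum] at h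
      simp only [h2, hr, rs_sum, rs_e, y] at h
      rw [map_sum, map_sum] at h
      simp only [proj_app_e] at h
      refine h.trans (Finset.sum_congr rfl fun k _ => ?_)
      rw [LinearMap.map_smul, proj_sum]
      split_ifs with hi
      · rfl
      · rw [Finsupp.notMem_support_iff.1 hi, map_zero, mul_zero]
        exact smul_zero _
    letI := ρ.toAlgebra
    haveI : Module.Flat R (O.obj.obj (op A)) := hP.flat (b ≫ a) hW hA
    let x : ({i // i ∈ A₀} ⊕ {k // k ∈ B}) → (I →₀ R) :=
      Sum.elim (fun j => Finsupp.single j.1 1) fun k => r k.1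
    obtain ⟨m, p, hp⟩ := Submodule.fg_iff_exists_fin_generating_family.1
      (IsNoetherian.noetherian (LinearMap.ker (Fintype.linearCombination R x)))
    have hp0 : ∀ l, ∑ t, p l t • x t = 0 := fun l =>
      (Fintype.linearCombination_apply _ _ _).symm.trans
        (hp ▸ Submodule.subset_span ⟨l, rfl⟩ : p l ∈ LinearMap.ker (Fintype.linearCombination R x))
    have hp' : ∀ c : _ → R, ∑ t, c t • x t = 0 → ∃ δ : Fin m → R, ∀ t, c t = ∑ l, δ l * p l t := fun c hc => by
      have h1 : c ∈ Submodule.span R (Set.range p) :=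
        hp ▸ (LinearMap.mem_ker.2 ((Fintype.linearCombination_apply _ _ _).trans hc))
      obtain ⟨δ, hδ⟩ := (Submodule.mem_span_range_iff_exists_fun _).1 h1
      exact ⟨δ, fun t => by simp [← hδ]⟩
    let c' : ({i // i ∈ A₀} ⊕ {k // k ∈ B}) → O.obj.obj (op A) :=
      Sum.elim (fun j => rr O b.op (c j)) fun k => -(d k.1)
    have hc' : ∑ t, c' t ⊗ₜ[R] x t = 0 := by
      refine (TensorProduct.finsuppScalarRight R R (O.obj.obj (op A)) I).injective ?_
      ext i
      rw [map_sum, map_zero, Finsupp.zero_apply, Finsupp.finset_sum_apply]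
      simp only [TensorProduct.finsuppScalarRight_apply_tmul_apply]
      rw [Fintype.sum_sum_type]
      simp only [c', x, Sum.elim_inl, Sum.elim_inr, smul_neg, Finset.sum_neg_distrib]
      rw [← sub_eq_add_neg, sub_eq_zero, Finset.sum_coe_sort B (fun k => r k i • (show O.obj.obj (op A) from d k))]
      refine Eq.trans (Finset.sum_congr rfl fun j _ => ?_)
        ((hrel i).trans (Finset.sum_congr rfl fun k _ => ?_))
      · rw [Finsupp.single_apply]; split_ifs <;> simp
      · rw [Algebra.smul_def, mul_comm]; rfl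
    obtain ⟨δ', hδ'⟩ := H24FMod.flat_rel_comb x (fun l : ULift.{u} (Fin m) => p l.down) (fun l => hp0 l.down)
      (fun c hc => (hp' c hc).elim fun δ hδ => ⟨fun l => δ l.down, fun t => (hδ t).trans
        (Equiv.ulift.{u}.sum_comp fun l => δ l * p l t).symm⟩) c' hc'
    let δ : Fin m → O.obj.obj (op A) := fun l => δ' ⟨l⟩
    have hδ : ∀ t, c' t = ∑ l, δ l * algebraMap R _ (p l t) := fun t => (hδ' t).trans
      (Equiv.ulift.{u}.sum_comp fun l => δ l * algebraMap R _ (p l t))
    have hpN : ∀ l, (fun j => p l (Sum.inl j)) ∈ N := fun l => by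
      have h := hp0 l
      rw [Fintype.sum_sum_type] at h
      refine Submodule.mem_comap.2 ?_
      rw [show L₀ = Fintype.linearCombination R _ from rfl, Fintype.linearCombination_apply]
      have h' : ∑ j : {i // i ∈ A₀}, p l (Sum.inl j) • Finsupp.single j.1 (1 : R) =
          ∑ k : {k // k ∈ B}, (-p l (Sum.inr k)) • r k.1 := by
        simp only [neg_smul, Finset.sum_neg_distrib]
        simp only [x, Sum.elim_inl, Sum.elim_inr] at h
        exact eq_neg_of_add_eq_zero_left h
      rw [h']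
      exact Submodule.sum_mem _ fun k _ => Submodule.smul_mem _ _ (Submodule.subset_span ⟨k.1, rfl⟩)
    choose β hβ using fun l => (Submodule.mem_span_range_iff_exists_fun _).1 (hq.symm ▸ hpN l :
      (fun j => p l (Sum.inl j)) ∈ Submodule.span R (Set.range q))
    refine ⟨fun t => rr O a'.op (∑ l, δ l * ρ (β l t.down)), fun j => ?_⟩
    have h := congrArg (rr O a'.op) (hδ (Sum.inl j))
    simp only [c', Sum.elim_inl] at h
    rw [op_comp, ← rr_rr]
    refine h.trans ?_
    have e1 : ∀ l, algebraMap R (O.obj.obj (op A)) (p l (Sum.inl j)) =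
        ∑ t : ULift.{u} (Fin n), ρ (β l t.down) * ρ (q t.down j) := fun l => by
      rw [show p l (Sum.inl j) = ∑ t, β l t * q t j by
        simpa using (congrFun (hβ l) j).symm, map_sum]
      exact ((Equiv.ulift.{u}.sum_comp fun t => ρ (β l t) * ρ (q t j)).trans
        (Finset.sum_congr rfl fun t _ => (map_mul ρ _ _).symm)).symm
    simp only [e1, Finset.mul_sum]
    rw [Finset.sum_comm]
    refine (map_sum (O.obj.map a'.op).hom _ _).trans ?_
    refine Finset.sum_congr rfl fun t _ => ?_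
    have hρ : rr O ((a' ≫ b) ≫ a).op (q t.down j) = rr O a'.op (ρ (q t.down j)) := by
      rw [show rr O a'.op (ρ (q t.down j)) = rr O a'.op (rr O (b ≫ a).op (q t.down j)) from rfl,
        rr_rr, ← op_comp, Category.assoc]
    rw [hρ, ← map_mul, Finset.sum_mul]
    exact congrArg _ (Finset.sum_congr rfl fun l _ => (mul_assoc _ _ _).symm)

/-- Finitely many members of a generating family already generate, locally. -/
theorem exists_finset_gen (hP : GoodBase O P) {I : Type u} (s : I → ((forg O).obj F).obj (op U))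
    [Epi (genMor s)] {W : C} (g : W ⟶ U) (hW : FG F W) :
    ∃ S ∈ J W, ∀ ⦃V : C⦄ (v : V ⟶ W), S v → ∃ (A : C) (a : V ⟶ A) (b : A ⟶ W) (A₀ : Finset I),
      P A ∧ a ≫ b = v ∧ Gen fun i : {i // i ∈ A₀} => rs ((forg O).obj F) (b ≫ g).op (s i) := by
  classical
  obtain ⟨T, hT, t, ht⟩ := hW
  let WU : Over U := Over.mk g
  obtain ⟨S₀, hS₀, hS₀'⟩ := exists_lifts (genMor s) (V := WU) t
  obtain ⟨T', hT', hT''⟩ := hP.refine' ((J.mem_over_iff S₀).1 hS₀)
  refine ⟨T', hT', fun V v hv => ?_⟩
  obtain ⟨A, a, b, hA, hb, hab⟩ := hT'' v hv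
  let AU : Over U := Over.mk (b ≫ g)
  let bU : AU ⟶ WU := Over.homMk b
  obtain ⟨z, hz⟩ := hS₀' bU ((Sieve.overEquiv_iff S₀ b).1 hb)
  choose B d hd using fun j => exists_e_combination (qcObj_over _ (hP.qc A hA)) (z j)
  refine ⟨A, a, b, Finset.univ.biUnion B, hA, hab, fun Z k m => ?_⟩
  refine LSpan.trans (ht (k ≫ b) m) k fun Z' a' j => ?_
  have h : rs ((forg O).obj F) b.op (t j) =
      ∑ i ∈ B j, d j i • rs ((forg O).obj F) (b ≫ g).op (s i) := by
    refine Eq.trans (hz j).symm ?_
    rw [hd j, map_sum]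
    exact Finset.sum_congr rfl fun i _ => genMor_e s i _
  rw [show (a' ≫ k ≫ b).op = b.op ≫ (a' ≫ k).op by simp, ← rs_rs, h, rs_sum]
  refine LSpan.sum _ fun i hi => ?_
  rw [rs_smul']
  exact (LSpan.single (s := fun i : {i // i ∈ Finset.univ.biUnion B} => rs ((forg O).obj F) (b ≫ g).op (s i))
    ⟨i, Finset.mem_biUnion.2 ⟨j, Finset.mem_univ j, hi⟩⟩).smul _

/-- A quasi-coherent module of finite type over a good base is of finite presentation. -/
theorem isFinitePresentation_of_isQuasicoherent (hP : GoodBase O P) (F : ModSite.Mod O)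
    [hqc : SheafOfModules.IsQuasicoherent.{u} (R := ModSite.ringSh O) F]
    [SheafOfModules.IsFiniteType.{u} (R := ModSite.ringSh O) F] :
    SheafOfModules.IsFinitePresentation (R := ModSite.ringSh O) F := by
  obtain ⟨D⟩ := hqc.nonempty_quasicoherentData
  refine isFinitePresentation_of_lh (lh_bind
    (lh_and (lh_of_coversTop D.coversTop (fun W V g h => h.elim fun i hi => ⟨i, ⟨g ≫ hi.some⟩⟩)
      (P := fun W => ∃ i, Nonempty (W ⟶ D.X i)) fun i => ⟨i, ⟨𝟙 _⟩⟩) (lh_fg F)
      fun W V g h => h.elim fun i hi => ⟨i, ⟨g ≫ hi.some⟩⟩) fun W hW => ?_)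
  obtain ⟨⟨i, ⟨g⟩⟩, hFG⟩ := hW
  let p := D.presentation i
  obtain ⟨s, hs⟩ := exists_eq_genMor (F := F) (U := D.X i) p.generators.π
  haveI : Epi (genMor s) := by rw [hs]; exact p.generators.epi
  let κ : fr' O (D.X i) p.relations.I ⟶ kernel (genMor s) :=
    p.relations.π ≫ (kernelIsoOfEq hs).inv
  haveI : Epi κ := by
    haveI := p.relations.epi
    exact epi_comp _ _
  obtain ⟨S, hS, hS'⟩ := exists_finset_gen hP s g hFG
  refine ⟨S, hS, fun V v hv => ?_⟩
  obtain ⟨A, a, b, A₀, hA, hab, hgen⟩ := hS' v hv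
  obtain ⟨L, hL, r', hr'⟩ := exists_rel_good hP s κ (b ≫ g) hA A₀
  exact FP.res a ⟨_, L, inferInstance, hL, _, r', hgen, hr'⟩

/-- A quasi-coherent submodule of a module with Noetherian sections over good objects is of finite type. -/
theorem isFiniteType_of_mono (hP : GoodBase O P) {G F : ModSite.Mod O}
    [hqc : SheafOfModules.IsQuasicoherent.{u} (R := ModSite.ringSh O) G] (ι : G ⟶ F) [Mono ι]
    (hfin : ∀ W, P W → Module.Finite (O.obj.obj (op W)) (((forg O).obj F).obj (op W))) :
    SheafOfModules.IsFiniteType.{u} (R := ModSite.ringSh O) G := by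
  classical
  obtain ⟨D⟩ := hqc.nonempty_quasicoherentData
  refine isFiniteType_of_lh (lh_bind (P := fun W => ∃ i, Nonempty (W ⟶ D.X i))
    (lh_of_coversTop D.coversTop (fun W V g h => h.elim fun i hi => ⟨i, ⟨g ≫ hi.some⟩⟩)
      fun i => ⟨i, ⟨𝟙 _⟩⟩) fun W hW => ?_)
  obtain ⟨i, ⟨g⟩⟩ := hW
  obtain ⟨s, hs⟩ := exists_eq_genMor (F := G) (U := D.X i) (D.presentation i).generators.π
  haveI : Epi (genMor s) := by rw [hs]; exact (D.presentation i).generators.epi
  obtain ⟨S, hS, hS'⟩ := hP.cover W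
  refine ⟨S, hS, fun V v hv => ?_⟩
  obtain ⟨A, a, b, hA, hab⟩ := hS' v hv
  let R := O.obj.obj (op A)
  haveI : IsNoetherianRing R := hP.noeth A hA
  haveI := hfin A hA
  let σ : (D.presentation i).generators.I → ((forg O).obj G).obj (op A) :=
    fun j => rs ((forg O).obj G) (b ≫ g).op (s j)
  let θ : ((forg O).obj G).obj (op A) →ₗ[R] ((forg O).obj F).obj (op A) := (ι.val.app (op A)).hom
  have hθ : Function.Injective θ := injective_app ι (op A)
  haveI : IsNoetherian R (((forg O).obj G).obj (op A)) := isNoetherian_of_injective θ hθ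
  obtain ⟨t, ht⟩ : ∃ t : Finset (D.presentation i).generators.I, ∀ j : (D.presentation i).generators.I,
      σ j ∈ Submodule.span R (σ '' (t : Set _)) ∧ True := by
    obtain ⟨T, hT, hTsp⟩ := (Submodule.fg_span_iff_fg_span_finset_subset (R := R) (Set.range σ)).1
      (IsNoetherian.noetherian _)
    obtain ⟨t, -, rfl⟩ := (Finset.subset_set_image_iff (f := σ) (s := Set.univ) (t := T)).1 (by rw [Set.image_univ]; exact hT)
    exact ⟨t, fun j => ⟨by rw [← Finset.coe_image, ← hTsp]; exact Submodule.subset_span ⟨j, rfl⟩, trivial⟩⟩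
  refine FG.res a ⟨{j // j ∈ t}, inferInstance, fun j => σ j.1, fun Z k m => ?_⟩
  let ZU : Over (D.X i) := Over.mk (k ≫ b ≫ g)
  obtain ⟨S', hS₁, hS₁'⟩ := exists_lifts (genMor s) (V := ZU) (fun _ : Unit => m)
  obtain ⟨T', hT', hT''⟩ := hP.refine' ((J.mem_over_iff S').1 hS₁)
  refine LSpan.of_cover hT' fun Z' c hc => ?_
  obtain ⟨A', a', b', hA', hb', rfl⟩ := hT'' c hc
  obtain ⟨z, hz⟩ := hS₁' (Over.homMk b' : Over.mk (b' ≫ k ≫ b ≫ g) ⟶ ZU) ((Sieve.overEquiv_iff S' b').1 hb')
  obtain ⟨B, d, hd⟩ := exists_e_combination (qcObj_over _ (hP.qc A' hA')) (z ())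
  have h : rs ((forg O).obj G) b'.op m =
      ∑ j ∈ B, d j • rs ((forg O).obj G) (b' ≫ k).op (σ j) := by
    refine Eq.trans (hz ()).symm ?_
    rw [hd, map_sum]
    refine Finset.sum_congr rfl fun j _ => (genMor_e s j _).trans ?_
    simp only [σ, rs_rs, ← op_comp, Over.mk_hom, Category.assoc]
  rw [op_comp, ← rs_rs, h, rs_sum]
  refine LSpan.sum _ fun j _ => ?_
  rw [rs_smul', rs_rs, ← op_comp, ← Category.assoc]
  refine LSpan.smul _ ?_
  obtain ⟨w, hw⟩ := (Submodule.mem_span_image_finset_iff_exists_fun R).1 (ht j).1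
  rw [← hw, rs_sum]
  refine LSpan.sum _ fun j' _ => ?_
  rw [rs_smul']
  exact (LSpan.single (s := fun j : {j // j ∈ t} => σ j.1) ⟨j'.1, j'.2⟩).smul _

end Groth.Agent.H14QCohFP
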